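import Groth.Agent.NormAmpleLib.Norm
import Groth.Agent.PullbackMod.Flat

/-! The norm of global functions along a finite locally free morphism. -/

set_option autoImplicit false
set_option linter.style.haveILetI false
set_option backward.isDefEq.respectTransparency false

universe u

open CategoryTheory CategoryTheory.Limits AlgebraicGeometry TopologicalSpace Opposite
open scoped TensorProduct

noncomputable section

namespace Groth.Agent.GmNormLib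

open NormAmpleLib

/-- The norm commutes with base change. -/
theorem norm_algebraMap_pushout (R R' A A' : Type u) [CommRing R] [CommRing R'] [CommRing A] [CommRing A']
    [Algebra R R'] [Algebra R A] [Algebra R A'] [Algebra R' A'] [Algebra A A'] [IsScalarTower R R' A']
    [IsScalarTower R A A'] [Algebra.IsPushout R R' A A'] {d : ℕ} (b : Module.Basis (Fin d) R A) :
    Nonempty (Module.Basis (Fin d) R' A') ∧
      ∀ a : A, Algebra.norm R' (algebraMap A A' a) = algebraMap R R' (Algebra.norm R a) := by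
  let e := Algebra.IsPushout.equiv R R' A A'
  haveI := Module.Free.of_basis b
  haveI := Module.Finite.of_basis b
  refine ⟨⟨(Algebra.TensorProduct.basis R' b).map e.toLinearEquiv⟩, fun a => ?_⟩
  rw [show algebraMap A A' a = e (1 ⊗ₜ a) by rw [Algebra.IsPushout.equiv_tmul, map_one, one_mul],
    Algebra.norm_eq_of_algEquiv, Algebra.norm_apply, Algebra.norm_apply, ← LinearMap.det_baseChange,
    Algebra.baseChange_lmul]

variable {T Y : Scheme.{u}} (g : Y ⟶ T)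

/-- Every point has a nice affine neighbourhood. -/
def LocFree : Prop := ∀ x : T, ∃ (D : T.Opens) (d : ℕ), x ∈ D ∧ IsAffineOpen D ∧ Nice g D d

/-- `r` is the norm of `u`. -/
def IsGNorm (u : Γ(Y, ⊤)) (r : Γ(T, ⊤)) : Prop :=
  ∀ (D : T.Opens) (d : ℕ), IsAffineOpen D → Nice g D d →
    nrm g D (Y.presheaf.map (homOfLE (le_top : g ⁻¹ᵁ D ≤ ⊤)).op u) = T.presheaf.map (homOfLE (le_top : D ≤ ⊤)).op r

variable {g}

theorem res_res (X : Scheme.{u}) {U V W : X.Opens} (h : V ≤ U) (h' : W ≤ V) (a : Γ(X, U)) :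
    X.presheaf.map (homOfLE h').op (X.presheaf.map (homOfLE h).op a) = X.presheaf.map (homOfLE (h'.trans h)).op a := by
  rw [← ConcreteCategory.comp_apply, ← X.presheaf.map_comp, ← op_comp, homOfLE_comp]

theorem overlap [IsAffineHom g] (u : Γ(Y, ⊤)) {W W' : T.Opens} (hW : IsAffineOpen W) (hW' : IsAffineOpen W') {d d' : ℕ}
    (hn : Nice g W d) (hn' : Nice g W' d') (z : T) (hz : z ∈ W) (hz' : z ∈ W') :
    T.presheaf.germ W z hz (nrm g W (Y.presheaf.map (homOfLE (le_top : g ⁻¹ᵁ W ≤ ⊤)).op u)) =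
      T.presheaf.germ W' z hz' (nrm g W' (Y.presheaf.map (homOfLE (le_top : g ⁻¹ᵁ W' ≤ ⊤)).op u)) := by
  obtain ⟨f, f', hff, hzf⟩ := exists_basicOpen_le_affine_inter hW hW' z ⟨hz, hz'⟩
  have h₁ : T.basicOpen f ≤ W := T.basicOpen_le f
  have h₂ : T.basicOpen f ≤ W' := hff.le.trans (T.basicOpen_le f')
  have e₁ := (nice_res hW hn f rfl h₁).2 (Y.presheaf.map (homOfLE (le_top : g ⁻¹ᵁ W ≤ ⊤)).op u)
  have e₂ := (nice_res hW' hn' f' hff h₂).2 (Y.presheaf.map (homOfLE (le_top : g ⁻¹ᵁ W' ≤ ⊤)).op u)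
  rw [res_res] at e₁ e₂
  have e := congrArg (T.presheaf.germ (T.basicOpen f) z hzf) (e₁.symm.trans e₂)
  rwa [TopCat.Presheaf.germ_res_apply, TopCat.Presheaf.germ_res_apply] at e

theorem existsUnique_isGNorm [IsAffineHom g] (hg : LocFree g) (u : Γ(Y, ⊤)) : ∃! r, IsGNorm g u r := by
  choose D d hx hD hn using hg
  let sf : ∀ x, Γ(T, D x) := fun x => nrm g (D x) (Y.presheaf.map (homOfLE (le_top : g ⁻¹ᵁ D x ≤ ⊤)).op u)
  have hcomp : TopCat.Presheaf.IsCompatible T.sheaf.1 D sf := fun i j => by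
    refine TopCat.Presheaf.section_ext T.sheaf _ _ _ fun z hz => ?_
    erw [TopCat.Presheaf.germ_res_apply, TopCat.Presheaf.germ_res_apply]
    exact overlap u (hD i) (hD j) (hn i) (hn j) z hz.1 hz.2
  obtain ⟨r, hr, -⟩ := T.sheaf.existsUnique_gluing' D ⊤ (fun x => homOfLE le_top)
    (fun x _ => Opens.mem_iSup.2 ⟨x, hx x⟩) sf hcomp
  refine ⟨r, fun W n hW hnW => ?_, fun r' hr' => ?_⟩
  · refine TopCat.Presheaf.section_ext T.sheaf _ _ _ fun z hz => ?_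
    erw [TopCat.Presheaf.germ_res_apply]
    refine (overlap u hW (hD z) hnW (hn z) z hz (hx z)).trans ?_
    have e := congrArg (T.presheaf.germ (D z) z (hx z)) (hr z)
    erw [TopCat.Presheaf.germ_res_apply] at e
    exact e.symm
  · refine TopCat.Presheaf.section_ext T.sheaf _ _ _ fun z _ => ?_
    have e := congrArg (T.presheaf.germ (D z) z (hx z)) ((hr z).trans (hr' (D z) (d z) (hD z) (hn z)))
    erw [TopCat.Presheaf.germ_res_apply, TopCat.Presheaf.germ_res_apply] at e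
    exact e.symm

/-- Sections over the preimage of an affine open in a base change. -/
theorem isPushout_pre [IsAffineHom g] {T' Y' : Scheme.{u}} {g' : Y' ⟶ T'} {k : T' ⟶ T} {k' : Y' ⟶ Y}
    (sq : IsPullback k' g' g k) {D : T.Opens} (hD : IsAffineOpen D) {D' : T'.Opens} (hD' : IsAffineOpen D')
    (hle : D' ≤ k ⁻¹ᵁ D) {W : Y'.Opens} (hW : W = k' ⁻¹ᵁ (g ⁻¹ᵁ D) ⊓ g' ⁻¹ᵁ D') :
    letI := (g.app D).hom.toAlgebra
    letI : Algebra Γ(T, D) Γ(T', D') := (k.appLE D D' hle).hom.toAlgebra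
    letI : Algebra Γ(T', D') Γ(Y', W) := (g'.appLE D' W (hW.le.trans inf_le_right)).hom.toAlgebra
    letI : Algebra Γ(Y, g ⁻¹ᵁ D) Γ(Y', W) := (k'.appLE (g ⁻¹ᵁ D) W (hW.le.trans inf_le_left)).hom.toAlgebra
    letI : Algebra Γ(T, D) Γ(Y', W) :=
      ((k'.appLE (g ⁻¹ᵁ D) W (hW.le.trans inf_le_left)).hom.comp (g.app D).hom).toAlgebra
    haveI : IsScalarTower Γ(T, D) Γ(Y, g ⁻¹ᵁ D) Γ(Y', W) := .of_algebraMap_eq fun _ => rfl
    haveI : IsScalarTower Γ(T, D) Γ(T', D') Γ(Y', W) := .of_algebraMap_eq' (by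
      show (g.app D ≫ k'.appLE (g ⁻¹ᵁ D) W _).hom = (k.appLE D D' hle ≫ g'.appLE D' W _).hom
      rw [Scheme.Hom.app_eq_appLE, Scheme.Hom.appLE_comp_appLE, Scheme.Hom.appLE_comp_appLE]
      simp only [sq.w])
    Algebra.IsPushout Γ(T, D) Γ(T', D') Γ(Y, g ⁻¹ᵁ D) Γ(Y', W) := by
  subst hW
  obtain ⟨-, h⟩ := PullbackMod.isPushout_appLE sq hD (hD.preimage g) hD' le_rfl hle
  convert h using 1 <;> exact Algebra.algebra_ext _ _ fun r => by
    simp [RingHom.algebraMap_toAlgebra, Scheme.Hom.app_eq_appLE]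

variable [IsAffineHom g]

/-- The global norm. -/
def gnorm (hg : LocFree g) : Γ(Y, ⊤) →* Γ(T, ⊤) where
  toFun u := (existsUnique_isGNorm hg u).choose
  map_one' := ((existsUnique_isGNorm hg 1).choose_spec.2 1 fun D d _ _ => by rw [map_one, map_one, map_one]).symm
  map_mul' u v := ((existsUnique_isGNorm hg (u * v)).choose_spec.2 _ fun D d hD hn => by
    rw [map_mul, map_mul, map_mul, (existsUnique_isGNorm hg u).choose_spec.1 D d hD hn,
      (existsUnique_isGNorm hg v).choose_spec.1 D d hD hn]).symm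

theorem gnorm_spec (hg : LocFree g) (u : Γ(Y, ⊤)) : IsGNorm g u (gnorm hg u) :=
  (existsUnique_isGNorm hg u).choose_spec.1

theorem gnorm_eq_norm [IsAffine T] (hg : LocFree g) [Algebra Γ(T, ⊤) Γ(Y, ⊤)] [Module.Finite Γ(T, ⊤) Γ(Y, ⊤)]
    [Module.Free Γ(T, ⊤) Γ(Y, ⊤)] (h : ∀ a, algebraMap Γ(T, ⊤) Γ(Y, ⊤) a = g.appTop a) (u : Γ(Y, ⊤)) :
    gnorm hg u = Algebra.norm Γ(T, ⊤) u := by
  rename_i ialg _ _
  obtain rfl : ialg = g.appTop.hom.toAlgebra := Algebra.algebra_ext _ _ h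
  letI := g.appTop.hom.toAlgebra
  obtain ⟨d, ⟨b⟩⟩ : ∃ d, Nonempty (Module.Basis (Fin d) Γ(T, ⊤) Γ(Y, ⊤)) :=
    ⟨_, ⟨(Module.Free.chooseBasis Γ(T, ⊤) Γ(Y, ⊤)).reindex (Fintype.equivFin _)⟩⟩
  have e := gnorm_spec hg u ⊤ d (isAffineOpen_top T) ⟨b⟩
  rw [show Y.presheaf.map (homOfLE (le_top : g ⁻¹ᵁ (⊤ : T.Opens) ≤ ⊤)).op u = u from
      ConcreteCategory.congr_hom (Y.presheaf.map_id _) u] at e
  erw [ConcreteCategory.congr_hom (T.presheaf.map_id _) (gnorm hg u)] at e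
  exact e.symm

theorem gnorm_baseChange {T' Y' : Scheme.{u}} {g' : Y' ⟶ T'} {k : T' ⟶ T} {k' : Y' ⟶ Y} [IsAffineHom g']
    (sq : IsPullback k' g' g k) (hg : LocFree g) (hg' : LocFree g') (u : Γ(Y, ⊤)) :
    gnorm hg' (k'.appTop u) = k.appTop (gnorm hg u) := by
  refine TopCat.Presheaf.section_ext T'.sheaf _ _ _ fun z _ => ?_
  obtain ⟨D, d, hzD, hD, hn⟩ := hg (k z)
  obtain ⟨D', hD', hzD', hle⟩ : ∃ D' : T'.Opens, IsAffineOpen D' ∧ z ∈ D' ∧ D' ≤ k ⁻¹ᵁ D := by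
    obtain ⟨_, ⟨D', hD', rfl⟩, hzD', hle⟩ := T'.isBasis_affineOpens.exists_subset_of_mem_open hzD (k ⁻¹ᵁ D).isOpen
    exact ⟨D', hD', hzD', hle⟩
  have hW : g' ⁻¹ᵁ D' = k' ⁻¹ᵁ (g ⁻¹ᵁ D) ⊓ g' ⁻¹ᵁ D' := by
    refine (inf_eq_right.2 fun y hy => ?_).symm
    show g (k' y) ∈ D
    rw [← Scheme.Hom.comp_apply, sq.w, Scheme.Hom.comp_apply]
    exact hle hy
  letI := alg g D
  letI := alg g' D'
  letI a1 : Algebra Γ(T, D) Γ(T', D') := (k.appLE D D' hle).hom.toAlgebra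
  letI a2 : Algebra Γ(Y, g ⁻¹ᵁ D) Γ(Y', g' ⁻¹ᵁ D') := (k'.appLE (g ⁻¹ᵁ D) (g' ⁻¹ᵁ D') (hW.le.trans inf_le_left)).hom.toAlgebra
  letI a3 : Algebra Γ(T, D) Γ(Y', g' ⁻¹ᵁ D') :=
    ((k'.appLE (g ⁻¹ᵁ D) (g' ⁻¹ᵁ D') (hW.le.trans inf_le_left)).hom.comp (g.app D).hom).toAlgebra
  haveI : IsScalarTower Γ(T, D) Γ(Y, g ⁻¹ᵁ D) Γ(Y', g' ⁻¹ᵁ D') := .of_algebraMap_eq fun _ => rfl
  haveI : IsScalarTower Γ(T, D) Γ(T', D') Γ(Y', g' ⁻¹ᵁ D') := .of_algebraMap_eq' (by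
    show (g.app D ≫ k'.appLE (g ⁻¹ᵁ D) (g' ⁻¹ᵁ D') _).hom = (k.appLE D D' hle ≫ g'.app D').hom
    rw [Scheme.Hom.app_eq_appLE, Scheme.Hom.app_eq_appLE, Scheme.Hom.appLE_comp_appLE, Scheme.Hom.appLE_comp_appLE]
    simp only [sq.w])
  haveI : Algebra.IsPushout Γ(T, D) Γ(T', D') Γ(Y, g ⁻¹ᵁ D) Γ(Y', g' ⁻¹ᵁ D') :=
    by
      have h := isPushout_pre sq hD hD' hle hW
      convert h using 1
      exact Algebra.algebra_ext _ _ fun r => by simp [RingHom.algebraMap_toAlgebra, Scheme.Hom.app_eq_appLE]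
  obtain ⟨b⟩ := hn
  obtain ⟨hb', hN⟩ := norm_algebraMap_pushout Γ(T, D) Γ(T', D') Γ(Y, g ⁻¹ᵁ D) Γ(Y', g' ⁻¹ᵁ D') b
  have e' := gnorm_spec hg' (k'.appTop u) D' d hD' hb'
  have e := gnorm_spec hg u D d hD ⟨b⟩
  have key : T'.presheaf.map (homOfLE (le_top : D' ≤ ⊤)).op (gnorm hg' (k'.appTop u)) =
      T'.presheaf.map (homOfLE (le_top : D' ≤ ⊤)).op (k.appTop (gnorm hg u)) := by
    rw [← e']
    have h1 : Y'.presheaf.map (homOfLE (le_top : g' ⁻¹ᵁ D' ≤ ⊤)).op (k'.appTop u) =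
        algebraMap Γ(Y, g ⁻¹ᵁ D) Γ(Y', g' ⁻¹ᵁ D') (Y.presheaf.map (homOfLE (le_top : g ⁻¹ᵁ D ≤ ⊤)).op u) := by
      show (k'.appTop ≫ Y'.presheaf.map _) u = (Y.presheaf.map _ ≫ k'.appLE _ _ _) u
      rw [Scheme.Hom.map_appLE]
      rfl
    rw [h1]
    refine (hN _).trans ?_
    rw [show Algebra.norm Γ(T, D) (Y.presheaf.map (homOfLE (le_top : g ⁻¹ᵁ D ≤ ⊤)).op u) = _ from e]
    show (T.presheaf.map _ ≫ k.appLE D D' hle) _ = (k.appTop ≫ T'.presheaf.map _) _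
    rw [Scheme.Hom.map_appLE]
    rfl
  have := congrArg (T'.presheaf.germ D' z hzD') key
  erw [TopCat.Presheaf.germ_res_apply, TopCat.Presheaf.germ_res_apply] at this
  exact this

end Groth.Agent.GmNormLib
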